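import Mathlib
import Cfsg.Agent.S4216
import Cfsg.Agent.Lib.Transfer.Fusion
import Cfsg.Agent.Lib.Transfer.CenterInf

/-!
A finite simple group in which every non-abelian subgroup is self-normalising has abelian centralisers.
-/

set_option autoImplicit false
set_option linter.style.haveILetI false

namespace SelfNorm4073

open Subgroup Cfsg.Agent.Transfer
open scoped commutatorElement

lemma orderOf_conj_eq {G : Type*} [Group G] (g x : G) : orderOf (g * x * g⁻¹) = orderOf x :=
  MulEquiv.orderOf_eq (MulAut.conj g) x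

/-- Elementwise commutativity of a subgroup. -/
def Ab {G : Type*} [Group G] (H : Subgroup G) : Prop := ∀ a ∈ H, ∀ b ∈ H, a * b = b * a

lemma ab_of {G : Type*} [Group G] {H : Subgroup G} (h : IsMulCommutative H) : Ab H :=
  fun a ha b hb => congrArg Subtype.val (h.is_comm.comm ⟨a, ha⟩ ⟨b, hb⟩)

lemma isMulCommutative_of {G : Type*} [Group G] {H : Subgroup G} (h : Ab H) : IsMulCommutative H :=
  ⟨⟨fun a b => Subtype.ext (h a a.2 b b.2)⟩⟩

lemma ab_of_map {G : Type*} [Group G] {K : Subgroup G} {H : Subgroup K} (h : Ab (H.map K.subtype)) : Ab H :=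
  fun a ha b hb => Subtype.ext (h a ⟨a, ha, rfl⟩ b ⟨b, hb, rfl⟩)

/-- In a finite `p`-group a maximal subgroup contains every `p`-th power. -/
lemma pow_mem_coatom {T : Type*} [Group T] [Finite T] {p : ℕ} (hT : IsPGroup p T) {M : Subgroup T}
    [M.Normal] (hM : IsCoatom M) (y : T) : y ^ p ∈ M := by
  by_contra hy
  have htop : M ⊔ zpowers (y ^ p) = ⊤ := hM.2 _ (lt_of_le_of_ne le_sup_left fun e =>
    hy (e ▸ mem_sup_right (mem_zpowers _)))
  have hyM : y ∈ M ⊔ zpowers (y ^ p) := htop ▸ mem_top y
  rw [← SetLike.mem_coe, Subgroup.normal_mul, Set.mem_mul] at hyM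
  obtain ⟨m, hm, w, hw, hmw⟩ := hyM
  obtain ⟨i, rfl⟩ := mem_zpowers_iff.1 hw
  set q := (y : T ⧸ M) with hq
  have h1 : q = q ^ ((p : ℤ) * i) := by
    conv_lhs => rw [hq, ← hmw]
    rw [QuotientGroup.mk_mul, (QuotientGroup.eq_one_iff m).2 hm, one_mul, QuotientGroup.mk_zpow,
      QuotientGroup.mk_pow, ← zpow_natCast, ← zpow_mul]
  have h2 : ∀ k : ℕ, q = q ^ (((p : ℤ) * i) ^ k) := by
    intro k
    induction k with
    | zero => simp
    | succ k ih => rw [pow_succ', zpow_mul, ← h1]; exact ih
  obtain ⟨k, hk⟩ := hT y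
  have h3 : q = 1 := by
    rw [h2 k, mul_pow, zpow_mul, ← Nat.cast_pow, zpow_natCast, hq, ← QuotientGroup.mk_pow, hk,
      QuotientGroup.mk_one, one_zpow]
  exact hy (pow_mem ((QuotientGroup.eq_one_iff y).1 h3) p)

/-- A minimal non-abelian `p`-group: two generators, derived subgroup central of order `p`. -/
lemma minimal_nonabelian {T : Type*} [Group T] [Finite T] {p : ℕ} [Fact p.Prime] (hT : IsPGroup p T)
    (hab : ∀ Q : Subgroup T, Q ≠ ⊤ → Ab Q) (hne : ¬ Ab (⊤ : Subgroup T)) :
    ∃ c : T, orderOf c = p ∧ c ∈ center T ∧ commutator T = zpowers c := by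
  obtain ⟨a, b, hab'⟩ : ∃ a b : T, a * b ≠ b * a := by
    by_contra h
    push Not at h
    exact hne fun a _ b _ => h a b
  have hgen : closure ({a, b} : Set T) = ⊤ := by
    by_contra h
    exact hab' (hab _ h a (subset_closure (by simp)) b (subset_closure (by simp)))
  have hcen : ∀ y : T, y * a = a * y → y * b = b * y → y ∈ center T := by
    intro y h1 h2
    rw [mem_center_iff]
    intro g
    have hle : closure ({a, b} : Set T) ≤ centralizer ({y} : Set T) := by
      rw [closure_le]
      rintro z (rfl | rfl)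
      · exact mem_centralizer_singleton_iff.2 h1.symm
      · exact mem_centralizer_singleton_iff.2 h2.symm
    exact mem_centralizer_singleton_iff.1 (hle (hgen ▸ mem_top g))
  haveI : Group.IsNilpotent T := hT.isNilpotent
  have hmax : ∀ g : T, (g = a ∨ g = b) → ∃ M : Subgroup T, IsCoatom M ∧ g ∈ M ∧ M.Normal := by
    intro g hg
    have hproper : zpowers g ≠ ⊤ := by
      intro e
      apply hab'
      obtain ⟨i, hi⟩ := mem_zpowers_iff.1 (e ▸ mem_top a : a ∈ zpowers g)
      obtain ⟨j, hj⟩ := mem_zpowers_iff.1 (e ▸ mem_top b : b ∈ zpowers g)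
      rw [← hi, ← hj, ← zpow_add, ← zpow_add, add_comm]
    rcases eq_top_or_exists_le_coatom (zpowers g) with h | ⟨M, hM, hle⟩
    · exact absurd h hproper
    · exact ⟨M, hM, hle (mem_zpowers _),
        NormalizerCondition.normal_of_coatom M Group.normalizerCondition_of_isNilpotent hM⟩
  obtain ⟨A, hA, haA, hAn⟩ := hmax a (Or.inl rfl)
  obtain ⟨B, hB, hbB, hBn⟩ := hmax b (Or.inr rfl)
  have hAB : ∀ y, y ∈ A → y ∈ B → y ∈ center T := fun y h1 h2 =>
    hcen y (hab A hA.1 y h1 a haA) (hab B hB.1 y h2 b hbB)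
  set c := ⁅a, b⁆ with hc
  have hcz : c ∈ center T := by
    refine hAB c ?_ ?_
    · rw [hc, commutatorElement_def, mul_assoc, mul_assoc, ← mul_assoc b]
      exact A.mul_mem haA (hAn.conj_mem _ (A.inv_mem haA) b)
    · rw [hc, commutatorElement_def]
      exact B.mul_mem (hBn.conj_mem _ hbB a) (B.inv_mem hbB)
  have hc1 : c ≠ 1 := fun h => hab' (commutatorElement_eq_one_iff_mul_comm.1 h)
  have hconj : ∀ k : ℕ, a ^ k * b * (a ^ k)⁻¹ = c ^ k * b := by
    intro k
    induction k with
    | zero => simp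
    | succ k ih =>
      have h1 : a * b * a⁻¹ = c * b := by rw [hc, commutatorElement_def]; group
      calc a ^ (k + 1) * b * (a ^ (k + 1))⁻¹ = a * (a ^ k * b * (a ^ k)⁻¹) * a⁻¹ := by
            rw [pow_succ']; group
        _ = a * (c ^ k * b) * a⁻¹ := by rw [ih]
        _ = c ^ k * (a * b * a⁻¹) := by
            rw [← mul_assoc a, mem_center_iff.1 (pow_mem hcz k) a]; group
        _ = c ^ (k + 1) * b := by rw [h1, pow_succ]; group
  have hcp : c ^ p = 1 := by
    have hz : a ^ p ∈ center T := hAB _ (pow_mem_coatom hT hA a) (pow_mem_coatom hT hB a)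
    have h1 := hconj p
    rw [← mem_center_iff.1 hz b, mul_inv_cancel_right] at h1
    exact (mul_eq_right.1 h1.symm)
  refine ⟨c, orderOf_eq_prime hcp hc1, hcz, le_antisymm ?_ ?_⟩
  · have hn : (zpowers c).Normal := ⟨fun n hn g => by
      rw [mem_center_iff.1 (zpowers_le.2 hcz hn) g, mul_inv_cancel_right]; exact hn⟩
    have hπ : ∀ g : T, (QuotientGroup.mk' (zpowers c) g) ∈ center (T ⧸ zpowers c) := by
      have key : ∀ y : T, ⁅y, a⁆ ∈ zpowers c → ⁅y, b⁆ ∈ zpowers c →
          QuotientGroup.mk' (zpowers c) y ∈ center (T ⧸ zpowers c) := by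
        intro y h1 h2
        have e : ∀ z : T, ⁅y, z⁆ ∈ zpowers c →
            Commute (QuotientGroup.mk' (zpowers c) y) (QuotientGroup.mk' (zpowers c) z) := fun z hz => by
          rw [← commutatorElement_eq_one_iff_commute, ← map_commutatorElement]
          exact (QuotientGroup.eq_one_iff _).2 hz
        have hle : closure ({a, b} : Set T) ≤
            (centralizer ({QuotientGroup.mk' (zpowers c) y} : Set (T ⧸ zpowers c))).comap
              (QuotientGroup.mk' (zpowers c)) := by
          rw [closure_le]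
          rintro z (rfl | rfl)
          · exact mem_centralizer_singleton_iff.2 (e _ h1).symm
          · exact mem_centralizer_singleton_iff.2 (e _ h2).symm
        rw [mem_center_iff]
        intro g
        obtain ⟨g, rfl⟩ := QuotientGroup.mk'_surjective _ g
        exact mem_centralizer_singleton_iff.1 (hle (hgen ▸ mem_top g))
      have ha' := key a (by rw [commutatorElement_self]; exact one_mem _) (by rw [← hc]; exact mem_zpowers c)
      have hb' := key b (by rw [← commutatorElement_inv, ← hc]; exact inv_mem (mem_zpowers c))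
        (by rw [commutatorElement_self]; exact one_mem _)
      intro g
      have hle : closure ({a, b} : Set T) ≤ (center (T ⧸ zpowers c)).comap (QuotientGroup.mk' (zpowers c)) := by
        rw [closure_le]
        rintro z (rfl | rfl)
        · exact ha'
        · exact hb'
      exact hle (hgen ▸ mem_top g)
    rw [_root_.commutator_def, commutator_le]
    intro u _ v _
    apply (QuotientGroup.eq_one_iff (N := zpowers c) _).1
    show QuotientGroup.mk' (zpowers c) ⁅u, v⁆ = 1
    rw [map_commutatorElement, commutatorElement_eq_one_iff_mul_comm]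
    exact mem_center_iff.1 (hπ v) _
  · rw [zpowers_le, hc, _root_.commutator_def]
    exact commutator_mem_commutator (mem_top a) (mem_top b)

variable {G : Type*} [Group G] [Finite G]
  (h : ∀ H : Subgroup G, ¬ IsMulCommutative H → normalizer (H : Set G) = H)

include h in
/-- A normalised proper subgroup is abelian. -/
lemma ab_of_normalized {K : Subgroup G} {g : G} (hg : g ∈ normalizer (K : Set G)) (hgK : g ∉ K) : Ab K := by
  by_contra hK
  rw [h K fun hc => hK (ab_of hc)] at hg
  exact hgK hg

variable [IsSimpleGroup G] (hG : ¬ IsMulCommutative G)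

include hG in
lemma commutator_eq_top : commutator G = ⊤ := by
  rcases (commutator_normal (⊤ : Subgroup G) (⊤ : Subgroup G)).eq_bot_or_eq_top with hb | ht
  · exfalso
    apply hG
    refine ⟨⟨fun a b => ?_⟩⟩
    have : ⁅a, b⁆ ∈ ⁅(⊤ : Subgroup G), ⊤⁆ := commutator_mem_commutator (mem_top a) (mem_top b)
    rw [hb, Subgroup.mem_bot] at this
    exact commutatorElement_eq_one_iff_mul_comm.1 this
  · exact ht

omit [Finite G] [IsSimpleGroup G] in
lemma conj_swap (a b : G) (hab : a ≠ b) : a⁻¹ ≠ b⁻¹ := fun e => hab (inv_injective e)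

set_option maxHeartbeats 1000000 in
include h hG in
/-- Sylow subgroups are abelian. -/
lemma sylow_ab {p : ℕ} [Fact p.Prime] (P : Sylow p G) : Ab (P : Subgroup G) := by
  classical
  by_contra hP
  have hPN : normalizer ((P : Subgroup G) : Set G) = P := h _ fun hc => hP (ab_of hc)
  have hsub : ∀ Q : Subgroup (P : Subgroup G), Q ≠ ⊤ → Ab Q := by
    intro Q hQ
    haveI : Group.IsNilpotent (P : Subgroup G) := P.2.isNilpotent
    have hlt := Group.normalizerCondition_of_isNilpotent Q (lt_top_iff_ne_top.2 hQ)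
    obtain ⟨g, hg, hgQ⟩ := SetLike.exists_of_lt hlt
    refine ab_of_map (ab_of_normalized h (g := (g : G)) ?_ ?_)
    · rw [mem_normalizer_iff]
      intro z
      constructor
      · rintro ⟨w, hw, rfl⟩
        exact ⟨g * w * g⁻¹, (mem_normalizer_iff.1 hg w).1 hw, rfl⟩
      · rintro ⟨w, hw, hwz⟩
        refine ⟨g⁻¹ * w * g, ?_, ?_⟩
        · rw [SetLike.mem_coe, mem_normalizer_iff.1 hg]
          simpa [mul_assoc] using hw
        · simp only [map_mul, map_inv]
          rw [hwz]
          show (g : G)⁻¹ * ((g : G) * z * (g : G)⁻¹) * g = z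
          group
    · rintro ⟨w, hw, he⟩
      exact hgQ (Subtype.ext he ▸ hw)
  obtain ⟨c₀, hc₀o, hc₀z, hc₀c⟩ := minimal_nonabelian P.2 hsub fun hT => hP fun a ha b hb =>
    congrArg Subtype.val (hT ⟨a, ha⟩ (mem_top _) ⟨b, hb⟩ (mem_top _))
  set c : G := (c₀ : G) with hc
  have hco : orderOf c = p := by rw [hc, Subgroup.orderOf_coe, hc₀o]
  have hc1 : c ≠ 1 := fun e => by
    rw [e, orderOf_one] at hco; exact (Fact.out : p.Prime).one_lt.ne hco
  have hcP : c ∈ (P : Subgroup G) := c₀.2
  have hcz : ∀ w ∈ (P : Subgroup G), w * c = c * w := fun w hw =>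
    congrArg Subtype.val (mem_center_iff.1 hc₀z ⟨w, hw⟩)
  have hcc : ⁅(P : Subgroup G), (P : Subgroup G)⁆ = zpowers c := by
    rw [← map_subtype_commutator, hc₀c, MonoidHom.map_zpowers]; rfl
  have hcomm : ∀ w ∈ (P : Subgroup G), ∀ w' ∈ (P : Subgroup G), ⁅w, w'⁆ ∈ zpowers c := fun w hw w' hw' =>
    hcc ▸ commutator_mem_commutator hw hw'
  -- a conjugate of `c` in `P` that is not central in `P`
  obtain ⟨z, hzP, u, hu, hzu⟩ : ∃ z : G, z * c * z⁻¹ ∈ (P : Subgroup G) ∧
      ∃ u ∈ (P : Subgroup G), u * (z * c * z⁻¹) ≠ (z * c * z⁻¹) * u := by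
    by_contra hcon
    push Not at hcon
    apply hP
    have hle : (P : Subgroup G) ≤ centralizer ((P : Subgroup G) : Set G) := by
      have hgr := Cfsg.Agent.S4216.result P
      rw [commutator_eq_top hG, inf_top_eq] at hgr
      conv_lhs => rw [hgr]
      refine sup_le ?_ (iSup_le fun z => ?_)
      · rw [hPN, hcc]
        refine inf_le_right.trans (zpowers_le.2 (mem_centralizer_iff.2 fun w hw => hcz w hw))
      · rw [hcc, MonoidHom.map_zpowers]
        intro y hy
        obtain ⟨hyP, hyz⟩ := hy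
        by_cases hy1 : y = 1
        · rw [hy1]; exact one_mem _
        have hzc : z * c * z⁻¹ ∈ (P : Subgroup G) := by
          have ho : orderOf ((MulAut.conj z).toMonoidHom c) = p := by
            rw [← hco]; exact MulEquiv.orderOf_eq (MulAut.conj z) c
          have hne : zpowers y = zpowers ((MulAut.conj z).toMonoidHom c) := by
            refine eq_of_le_of_card_ge (zpowers_le.2 hyz) ?_
            rw [Nat.card_zpowers, Nat.card_zpowers, ho]
            have hd : orderOf y ∣ p := by
              rw [← ho]; exact orderOf_dvd_of_mem_zpowers hyz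
            rcases (Nat.dvd_prime (Fact.out : p.Prime)).1 hd with h1 | h1
            · exact absurd (orderOf_eq_one_iff.1 h1) hy1
            · exact h1.ge
          have : (MulAut.conj z).toMonoidHom c ∈ zpowers y := hne ▸ mem_zpowers _
          simpa using (zpowers_le.2 hyP this)
        obtain ⟨i, hi⟩ := mem_zpowers_iff.1 hyz
        rw [← hi]
        refine zpow_mem ?_ i
        rw [mem_centralizer_iff]
        intro w hw
        simpa using hcon z hzc w hw
    intro a ha b hb
    exact mem_centralizer_iff.1 (hle hb) a ha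
  set x := z * c * z⁻¹ with hx
  have hxc : x ∉ zpowers c := fun hm => hzu (by
    obtain ⟨i, hi⟩ := mem_zpowers_iff.1 hm
    rw [← hi]
    exact (Commute.zpow_right (hcz u hu) i).eq)
  have hxo : orderOf x = p := by rw [hx, orderOf_conj_eq, hco]
  set E := closure ({c, x} : Set G) with hE
  have hcE : c ∈ E := subset_closure (by simp)
  have hxE : x ∈ E := subset_closure (by simp)
  have hEP : E ≤ (P : Subgroup G) := by
    rw [hE, closure_le]; rintro y (rfl | rfl) <;> assumption
  -- a conjugate of `P` containing `E` with derived subgroup `⟨x⟩`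
  obtain ⟨m, hmx, hEm⟩ : ∃ m : G, m * c * m⁻¹ = x ∧ E ≤ (P : Subgroup G).map (MulAut.conj m).toMonoidHom := by
    have hK : ((z • P : Sylow p G) : Subgroup G) ≤ centralizer ({x} : Set G) := by
      intro y hy
      rw [Fusion.coe_smul_eq_map, Fusion.mem_map_conj] at hy
      rw [mem_centralizer_singleton_iff, hx]
      calc y * (z * c * z⁻¹) = z * ((z⁻¹ * y * z) * c) * z⁻¹ := by group
        _ = z * (c * (z⁻¹ * y * z)) * z⁻¹ := by rw [hcz _ hy]
        _ = z * c * z⁻¹ * y := by group
    have hEK : E ≤ centralizer ({x} : Set G) := by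
      rw [hE, closure_le]
      rintro y (rfl | rfl)
      · exact mem_centralizer_singleton_iff.2 (hcz x hzP).symm
      · exact mem_centralizer_singleton_iff.2 rfl
    obtain ⟨k, hk, hkle⟩ := Fusion.exists_conj_le_of_isPGroup (z • P) hK (P.2.to_le hEP) hEK
    rw [Fusion.coe_smul_eq_map] at hkle
    refine ⟨k⁻¹ * z, ?_, fun e he => ?_⟩
    · rw [mem_centralizer_singleton_iff] at hk
      calc k⁻¹ * z * c * (k⁻¹ * z)⁻¹ = k⁻¹ * (x * k) := by rw [hx]; group
        _ = x := by rw [← hk]; group
    · have := Fusion.mem_map_conj.1 (hkle (Fusion.conj_mem_map_conj he k))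
      rw [Fusion.mem_map_conj]
      simpa [mul_assoc] using this
  set P1 := (P : Subgroup G).map (MulAut.conj m).toMonoidHom with hP1
  have hP1x : ∀ y ∈ P1, y * x = x * y := by
    intro y hy
    rw [← hmx]
    calc y * (m * c * m⁻¹) = m * ((m⁻¹ * y * m) * c) * m⁻¹ := by group
      _ = m * (c * (m⁻¹ * y * m)) * m⁻¹ := by rw [hcz _ (Fusion.mem_map_conj.1 hy)]
      _ = m * c * m⁻¹ * y := by group
  have hP1c : ∀ y ∈ P1, ⁅y, c⁆ ∈ zpowers x := by
    intro y hy
    have h1 := hcomm _ (Fusion.mem_map_conj.1 hy) _ (Fusion.mem_map_conj.1 (hEm hcE))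
    obtain ⟨i, hi⟩ := mem_zpowers_iff.1 h1
    refine mem_zpowers_iff.2 ⟨i, ?_⟩
    rw [← hmx, conj_zpow, hi, commutatorElement_def, commutatorElement_def]
    group
  have hnorm : ∀ y : G, y * c * y⁻¹ ∈ E → y * x * y⁻¹ ∈ E → y ∈ normalizer (E : Set G) := by
    intro y h1 h2
    rw [Subgroup.mem_normalizer_iff_map_conj_eq]
    refine eq_of_le_of_card_ge ?_ (card_map_of_injective (MulAut.conj y).injective).ge
    rw [hE, MonoidHom.map_closure, closure_le]
    rintro _ ⟨w, hw, rfl⟩
    rcases hw with rfl | rfl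
    · simpa [← hE] using h1
    · simpa [← hE] using h2
  have hPn : (P : Subgroup G) ≤ normalizer (E : Set G) := by
    intro w hw
    refine hnorm w ?_ ?_
    · rw [hcz w hw, mul_inv_cancel_right]; exact hcE
    · obtain ⟨i, hi⟩ := mem_zpowers_iff.1 (hcomm w hw x hzP)
      have : w * x * w⁻¹ = c ^ i * x := by rw [hi, commutatorElement_def]; group
      rw [this]; exact mul_mem (zpow_mem hcE i) hxE
  have hP1n : P1 ≤ normalizer (E : Set G) := by
    intro y hy
    refine hnorm y ?_ ?_
    · obtain ⟨i, hi⟩ := mem_zpowers_iff.1 (hP1c y hy)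
      have : y * c * y⁻¹ = x ^ i * c := by rw [hi, commutatorElement_def]; group
      rw [this]; exact mul_mem (zpow_mem hxE i) hcE
    · rw [hP1x y hy, mul_inv_cancel_right]; exact hxE
  have hcomE : ∀ e ∈ E, ∀ e' ∈ E, e * e' = e' * e := by
    have hle : E ≤ centralizer (E : Set G) := by
      rw [hE, closure_le]
      rintro y (rfl | rfl) <;> rw [SetLike.mem_coe, mem_centralizer_iff] <;> intro e he
      · exact hcz e (hEP he)
      · exact hP1x e (hEm he)
    exact fun e he e' he' => mem_centralizer_iff.1 (hle he') e he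
  by_cases hfix : ∀ y ∈ P1, y * c = c * y
  · -- `P1` centralises `E`, so the centraliser of `E` is non-abelian, yet normalised by `u`
    have hC : P1 ≤ centralizer (E : Set G) := by
      intro y hy
      rw [mem_centralizer_iff]
      have hle : E ≤ centralizer ({y} : Set G) := by
        rw [hE, closure_le]
        rintro w (rfl | rfl)
        · exact mem_centralizer_singleton_iff.2 (hfix y hy).symm
        · exact mem_centralizer_singleton_iff.2 (hP1x y hy).symm
      intro e he
      exact mem_centralizer_singleton_iff.1 (hle he)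
    have hCab : ¬ Ab (centralizer (E : Set G)) := fun hA => hP fun a ha b hb => by
      have := hA _ (hC (Fusion.conj_mem_map_conj ha m)) _ (hC (Fusion.conj_mem_map_conj hb m))
      exact (MulAut.conj m).injective (by simpa only [map_mul, MulAut.conj_apply] using this)
    refine hCab (ab_of_normalized h (g := u) ?_ ?_)
    · rw [mem_normalizer_iff]
      have hn := hPn hu
      intro w
      simp only [mem_centralizer_iff]
      constructor
      · intro hw e he
        have h1 := hw _ ((mem_normalizer_iff''.1 hn e).1 he)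
        calc e * (u * w * u⁻¹) = u * ((u⁻¹ * e * u) * w) * u⁻¹ := by group
          _ = u * (w * (u⁻¹ * e * u)) * u⁻¹ := by rw [h1]
          _ = u * w * u⁻¹ * e := by group
      · intro hw e he
        have h1 := hw _ ((mem_normalizer_iff.1 hn e).1 he)
        calc e * w = u⁻¹ * ((u * e * u⁻¹) * (u * w * u⁻¹)) * u := by group
          _ = u⁻¹ * ((u * w * u⁻¹) * (u * e * u⁻¹)) * u := by rw [h1]
          _ = w * e := by group
    · intro hm
      exact hzu (mem_centralizer_iff.1 hm x hxE).symm
  push Not at hfix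
  obtain ⟨v, hv, hvc⟩ := hfix
  -- normalise the two unipotent elements
  have norm1 : ∀ (g s t : G), (t * s = s * t) → orderOf s = p → g * s = s * g → ⁅g, t⁆ ∈ zpowers s →
      g * t ≠ t * g → ∀ e : ℤ, ∃ k : ℕ, g ^ k * t * (g ^ k)⁻¹ = s ^ e * t := by
    intro g s t hts hs hgs hgt hne e
    obtain ⟨i, hi⟩ := mem_zpowers_iff.1 hgt
    have hstep : g * t * g⁻¹ = s ^ i * t := by rw [hi, commutatorElement_def]; group
    have hit : ∀ k : ℕ, g ^ k * t * (g ^ k)⁻¹ = s ^ (i * k) * t := by
      intro k
      induction k with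
      | zero => simp
      | succ k ih =>
        calc g ^ (k + 1) * t * (g ^ (k + 1))⁻¹ = g * (g ^ k * t * (g ^ k)⁻¹) * g⁻¹ := by
              rw [pow_succ']; group
          _ = g * (s ^ (i * k) * t) * g⁻¹ := by rw [ih]
          _ = s ^ (i * k) * (g * t * g⁻¹) := by
              rw [← mul_assoc g, (Commute.zpow_right hgs (i * k)).eq]; group
          _ = s ^ (i * (k + 1 : ℕ)) * t := by rw [hstep]; push_cast; rw [mul_add, mul_one, zpow_add]; group
    have hip : ((i : ZMod p)) ≠ 0 := by
      intro h0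
      rw [ZMod.intCast_zmod_eq_zero_iff_dvd, ← hs, orderOf_dvd_iff_zpow_eq_one, hi] at h0
      exact hne (commutatorElement_eq_one_iff_mul_comm.1 h0)
    obtain ⟨k, hk⟩ : ∃ k : ℕ, ((i * k : ℤ) : ZMod p) = (e : ZMod p) := by
      refine ⟨((i : ZMod p)⁻¹ * (e : ZMod p)).val, ?_⟩
      push_cast
      rw [ZMod.natCast_val, ZMod.cast_id, ← mul_assoc, mul_inv_cancel₀ hip, one_mul]
    refine ⟨k, ?_⟩
    rw [hit k]
    congr 1
    rw [zpow_eq_zpow_iff_modEq, hs, ← ZMod.intCast_eq_intCast_iff]
    exact hk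
  obtain ⟨k₁, hk₁⟩ := norm1 u c x (hcz x hzP) hco (hcz u hu) (hcomm u hu x hzP) hzu 1
  obtain ⟨k₂, hk₂⟩ := norm1 v x c (hcz x hzP).symm hxo (hP1x v hv) (hP1c v hv) hvc (-1)
  set u' := u ^ k₁ with hu'
  set v' := v ^ k₂ with hv'
  rw [zpow_one] at hk₁
  rw [zpow_neg_one] at hk₂
  have hu'N : u' ∈ normalizer (E : Set G) := pow_mem (hPn hu) _
  have hv'N : v' ∈ normalizer (E : Set G) := pow_mem (hP1n hv) _
  have hu'c : u' * c * u'⁻¹ = c := by rw [hcz u' (pow_mem hu _), mul_inv_cancel_right]
  have hv'x : v' * x * v'⁻¹ = x := by rw [hP1x v' (pow_mem hv _), mul_inv_cancel_right]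
  have hcx : c * x = x * c := (hcz x hzP).symm
  have conj3 : ∀ g g' : G, ∀ e : G, (g * g') * e * (g * g')⁻¹ = g * (g' * e * g'⁻¹) * g⁻¹ := by
    intros; group
  rcases eq_or_ne p 2 with hp | hp
  · subst hp
    have hxi : x⁻¹ = x := by
      rw [inv_eq_iff_mul_eq_one, ← pow_two, ← hxo, pow_orderOf_eq_one]
    have hci : c⁻¹ = c := by
      rw [inv_eq_iff_mul_eq_one, ← pow_two, ← hco, pow_orderOf_eq_one]
    rw [hxi, ← hcx] at hk₂
    let S := {e : G // e ∈ E ∧ e ≠ 1}
    have hSn : ∀ (g : normalizer (E : Set G)) (e : G), e ∈ E ∧ e ≠ 1 →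
        (g : G) * e * (g : G)⁻¹ ∈ E ∧ (g : G) * e * (g : G)⁻¹ ≠ 1 := fun g e he =>
      ⟨(mem_normalizer_iff.1 g.2 e).1 he.1, fun h1 => he.2 (conj_eq_one_iff.1 h1)⟩
    letI : MulAction (normalizer (E : Set G)) S :=
      { smul := fun g e => ⟨(g : G) * e.1 * (g : G)⁻¹, hSn g e.1 e.2⟩
        one_smul := fun e => Subtype.ext (by show (1 : G) * e.1 * (1 : G)⁻¹ = e.1; group)
        mul_smul := fun g g' e => Subtype.ext (conj3 _ _ _) }
    letI : Fintype S := Fintype.ofFinite S
    have helem : ∀ e : S, e.1 = c ∨ e.1 = x ∨ e.1 = c * x := by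
      intro e
      have hle : (E : Set G) ⊆ {1, c, x, c * x} := by
        intro w hw
        induction hw using closure_induction with
        | mem w hw => rcases hw with rfl | rfl <;> simp
        | one => simp
        | mul a b _ _ ha hb =>
          have hcc' : c * c = 1 := by nth_rw 2 [← hci]; exact mul_inv_cancel c
          have hxx : x * x = 1 := by nth_rw 2 [← hxi]; exact mul_inv_cancel x
          have e1 : c * (c * x) = x := by rw [← mul_assoc, hcc', one_mul]
          have e2 : x * (c * x) = c := by rw [hcx, ← mul_assoc, hxx, one_mul]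
          have e3 : c * x * c = x := by rw [hcx, mul_assoc, hcc', mul_one]
          have e4 : c * x * x = c := by rw [mul_assoc, hxx, mul_one]
          have e5 : c * x * (c * x) = 1 := by rw [← mul_assoc, e3, hxx]
          rcases ha with rfl | rfl | rfl | rfl <;> rcases hb with rfl | rfl | rfl | rfl <;>
            simp [hcc', hxx, e1, e2, e3, e4, e5, hcx.symm]
        | inv a _ ha =>
          rcases ha with rfl | rfl | rfl | rfl <;> simp [hci, hxi, hcx]
      rcases hle e.2.1 with h1 | h1 | h1 | h1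
      · exact absurd h1 e.2.2
      · exact Or.inl h1
      · exact Or.inr (Or.inl h1)
      · exact Or.inr (Or.inr h1)
    let f := MulAction.toPermHom (normalizer (E : Set G)) S
    let σ := (Equiv.Perm.sign (α := S)).comp f
    have hx1 : x ≠ 1 := fun e => hxc (e ▸ one_mem _)
    have hcx1 : c * x ≠ 1 := fun e => hxc (by
      rw [eq_inv_of_mul_eq_one_right e]; exact inv_mem (mem_zpowers c))
    have hcnx : c ≠ x := fun e => hxc (e ▸ mem_zpowers c)
    let C : S := ⟨c, hcE, hc1⟩
    let X : S := ⟨x, hxE, hx1⟩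
    let D : S := ⟨c * x, mul_mem hcE hxE, hcx1⟩
    have hXD : X ≠ D := fun e => hc1 (right_eq_mul.1 (congrArg Subtype.val e) : c = 1)
    have hCD : C ≠ D := fun e => hx1 (left_eq_mul.1 (congrArg Subtype.val e) : x = 1)
    have hCX : C ≠ X := fun e => hcnx (congrArg Subtype.val e)
    have hall : ∀ e : S, e = C ∨ e = X ∨ e = D := fun e => by
      rcases helem e with h1 | h1 | h1
      · exact Or.inl (Subtype.ext h1)
      · exact Or.inr (Or.inl (Subtype.ext h1))
      · exact Or.inr (Or.inr (Subtype.ext h1))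
    have hu1 : f ⟨u', hu'N⟩ = Equiv.swap X D := by
      refine Equiv.ext fun e => ?_
      rcases hall e with rfl | rfl | rfl
      · rw [Equiv.swap_apply_of_ne_of_ne hCX hCD]; exact Subtype.ext hu'c
      · rw [Equiv.swap_apply_left]; exact Subtype.ext hk₁
      · rw [Equiv.swap_apply_right]; refine Subtype.ext ?_
        show u' * (c * x) * u'⁻¹ = x
        calc u' * (c * x) * u'⁻¹ = (u' * c * u'⁻¹) * (u' * x * u'⁻¹) := by group
          _ = x := by rw [hu'c, hk₁, ← mul_assoc]; nth_rw 2 [← hci]; rw [mul_inv_cancel, one_mul]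
    have hv1 : f ⟨v', hv'N⟩ = Equiv.swap C D := by
      refine Equiv.ext fun e => ?_
      rcases hall e with rfl | rfl | rfl
      · rw [Equiv.swap_apply_left]; exact Subtype.ext hk₂
      · rw [Equiv.swap_apply_of_ne_of_ne hCX.symm hXD]; exact Subtype.ext hv'x
      · rw [Equiv.swap_apply_right]; refine Subtype.ext ?_
        show v' * (c * x) * v'⁻¹ = c
        calc v' * (c * x) * v'⁻¹ = (v' * c * v'⁻¹) * (v' * x * v'⁻¹) := by group
          _ = c := by rw [hk₂, hv'x, mul_assoc]; nth_rw 2 [← hxi]; rw [mul_inv_cancel, mul_one]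
    let K := σ.ker.map (normalizer (E : Set G)).subtype
    have hKN : normalizer (E : Set G) ≤ normalizer (K : Set G) := by
      intro g hg
      refine Fusion.map_conj_eq_self_iff.mp ?_
      ext w
      rw [Fusion.mem_map_conj]
      constructor
      · rintro ⟨n, hn, he⟩
        refine ⟨⟨g, hg⟩ * n * ⟨g, hg⟩⁻¹, σ.normal_ker.conj_mem _ hn _, ?_⟩
        show g * (n : G) * g⁻¹ = w
        rw [show (n : G) = g⁻¹ * w * g from he]; group
      · rintro ⟨n, hn, rfl⟩
        exact ⟨⟨g, hg⟩⁻¹ * n * ⟨g, hg⟩, σ.normal_ker.conj_mem' _ hn _, rfl⟩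
    have huK : u' ∉ K := by
      rintro ⟨n, hn, he⟩
      obtain rfl : n = ⟨u', hu'N⟩ := Subtype.ext he
      have := MonoidHom.mem_ker.1 hn
      simp only [σ, MonoidHom.comp_apply, hu1, Equiv.Perm.sign_swap hXD] at this
      exact absurd this (by decide)
    have hA := ab_of_normalized h (hKN hu'N) huK
    have hrK : u' * v' ∈ K := by
      refine ⟨⟨u', hu'N⟩ * ⟨v', hv'N⟩, MonoidHom.mem_ker.2 ?_, rfl⟩
      simp only [σ, MonoidHom.comp_apply, map_mul, hu1, hv1, Equiv.Perm.sign_swap hXD,
        Equiv.Perm.sign_swap hCD, neg_mul_neg, one_mul]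
    have hcK : c ∈ K := by
      refine ⟨⟨c, hPn hcP⟩, MonoidHom.mem_ker.2 ?_, rfl⟩
      have : f ⟨c, hPn hcP⟩ = 1 := Equiv.ext fun e => Subtype.ext (by
        show c * e.1 * c⁻¹ = e.1
        rw [hcomE c hcE e.1 e.2.1, mul_inv_cancel_right])
      simp only [σ, MonoidHom.comp_apply, this, map_one]
    have := hA _ hrK _ hcK
    have h2 : u' * v' * c * (u' * v')⁻¹ = x := by
      rw [conj3, hk₂]
      calc u' * (c * x) * u'⁻¹ = (u' * c * u'⁻¹) * (u' * x * u'⁻¹) := by group
        _ = x := by rw [hu'c, hk₁, ← mul_assoc]; nth_rw 2 [← hci]; rw [mul_inv_cancel, one_mul]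
    rw [this, mul_inv_cancel_right] at h2
    exact hcnx h2
  · -- `p` odd: an element inverting `E`
    have hwc : (u' * v' * u') * c * (u' * v' * u')⁻¹ = x⁻¹ := by
      rw [conj3, hu'c, conj3, hk₂]
      calc u' * (x⁻¹ * c) * u'⁻¹ = (u' * x * u'⁻¹)⁻¹ * (u' * c * u'⁻¹) := by group
        _ = x⁻¹ := by rw [hu'c, hk₁, mul_inv_rev, inv_mul_cancel_right]
    have hwx : (u' * v' * u') * x * (u' * v' * u')⁻¹ = c := by
      rw [conj3, hk₁, conj3]
      have h1 : v' * (c * x) * v'⁻¹ = c := by
        calc v' * (c * x) * v'⁻¹ = (v' * c * v'⁻¹) * (v' * x * v'⁻¹) := by group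
          _ = c := by rw [hk₂, hv'x, mul_assoc, hcx, ← mul_assoc, inv_mul_cancel, one_mul]
      rw [h1, hu'c]
    set w := u' * v' * u' with hw
    have hww : ∀ e ∈ E, (w * w) * e * (w * w)⁻¹ = e⁻¹ := by
      intro e he
      induction he using closure_induction with
      | mem y hy =>
        rcases hy with rfl | rfl
        · rw [conj3, hwc]
          calc w * x⁻¹ * w⁻¹ = (w * x * w⁻¹)⁻¹ := by group
            _ = c⁻¹ := by rw [hwx]
        · rw [conj3, hwx, hwc]
      | one => group
      | mul a b ha hb iha ihb =>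
        calc (w * w) * (a * b) * (w * w)⁻¹ = ((w * w) * a * (w * w)⁻¹) * ((w * w) * b * (w * w)⁻¹) := by group
          _ = (a * b)⁻¹ := by rw [iha, ihb, mul_inv_rev, hcomE _ (inv_mem ha) _ (inv_mem hb)]
      | inv a ha iha =>
        calc (w * w) * a⁻¹ * (w * w)⁻¹ = ((w * w) * a * (w * w)⁻¹)⁻¹ := by simp [mul_assoc]
          _ = a⁻¹⁻¹ := by rw [iha]
    let K : Subgroup G :=
      { carrier := {n | n ∈ normalizer (E : Set G) ∧
          ((∀ e ∈ E, n * e * n⁻¹ = e) ∨ (∀ e ∈ E, n * e * n⁻¹ = e⁻¹))}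
        one_mem' := ⟨one_mem _, Or.inl fun e _ => by group⟩
        mul_mem' := by
          rintro a b ⟨ha, ha'⟩ ⟨hb, hb'⟩
          refine ⟨mul_mem ha hb, ?_⟩
          rcases ha' with ha' | ha' <;> rcases hb' with hb' | hb'
          · exact Or.inl fun e he => by rw [conj3, hb' e he, ha' e he]
          · exact Or.inr fun e he => by rw [conj3, hb' e he, ha' _ (inv_mem he)]
          · exact Or.inr fun e he => by rw [conj3, hb' e he, ha' e he]
          · exact Or.inl fun e he => by rw [conj3, hb' e he, ha' _ (inv_mem he), inv_inv]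
        inv_mem' := by
          rintro a ⟨ha, ha'⟩
          refine ⟨inv_mem ha, ?_⟩
          rcases ha' with ha' | ha'
          · refine Or.inl fun e he => ?_
            conv_lhs => rw [← ha' e he]
            group
          · refine Or.inr fun e he => ?_
            have := ha' _ (inv_mem he)
            rw [inv_inv] at this
            conv_lhs => rw [← this]
            group }
    have hKconj : ∀ g ∈ normalizer (E : Set G), ∀ n ∈ K, g * n * g⁻¹ ∈ K := by
      rintro g hg n ⟨hn, hn'⟩
      refine ⟨mul_mem (mul_mem hg hn) (inv_mem hg), ?_⟩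
      have hg' : ∀ e ∈ E, g⁻¹ * e * g ∈ E := fun e he => (mem_normalizer_iff''.1 hg e).1 he
      rcases hn' with hn' | hn'
      · refine Or.inl fun e he => ?_
        calc g * n * g⁻¹ * e * (g * n * g⁻¹)⁻¹ = g * (n * (g⁻¹ * e * g) * n⁻¹) * g⁻¹ := by group
          _ = e := by rw [hn' _ (hg' e he)]; group
      · refine Or.inr fun e he => ?_
        calc g * n * g⁻¹ * e * (g * n * g⁻¹)⁻¹ = g * (n * (g⁻¹ * e * g) * n⁻¹) * g⁻¹ := by group
          _ = e⁻¹ := by rw [hn' _ (hg' e he)]; group
    have hKn : u' ∈ normalizer (K : Set G) := by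
      rw [mem_normalizer_iff]
      intro n
      refine ⟨hKconj u' hu'N n, fun hn => ?_⟩
      have := hKconj _ (inv_mem hu'N) _ hn
      simpa [mul_assoc] using this
    have hsq : ∀ y : G, orderOf y = p → y ^ 2 ≠ 1 := fun y hy h2 => by
      have h3 := orderOf_dvd_of_pow_eq_one h2
      rw [hy] at h3
      exact hp ((Nat.prime_dvd_prime_iff_eq Fact.out Nat.prime_two).1 h3)
    have huK : u' ∉ K := by
      rintro ⟨-, h1 | h1⟩
      · have := h1 x hxE
        rw [hk₁] at this
        exact hc1 (mul_eq_right.1 this)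
      · have := h1 c hcE
        rw [hu'c] at this
        exact hsq c hco (by rw [pow_two]; nth_rw 2 [this]; exact mul_inv_cancel c)
    have hwN : w * w ∈ K :=
      ⟨mul_mem (mul_mem (mul_mem hu'N hv'N) hu'N) (mul_mem (mul_mem hu'N hv'N) hu'N), Or.inr hww⟩
    have hcK : c ∈ K := ⟨hPn hcP, Or.inl fun e he => by rw [hcomE c hcE e he, mul_inv_cancel_right]⟩
    have h1 := ab_of_normalized h hKn huK _ hwN _ hcK
    have h2 := hww c hcE
    rw [h1, mul_inv_cancel_right] at h2
    exact hsq c hco (by rw [pow_two]; nth_rw 2 [h2]; exact mul_inv_cancel c)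

set_option maxHeartbeats 1000000 in
include h hG in
/-- The centraliser of an element of prime order is abelian. -/
lemma centralizer_ab {r : ℕ} [Fact r.Prime] {a : G} (ha : orderOf a = r) :
    Ab (centralizer ({a} : Set G)) := by
  classical
  by_contra hC
  set C := centralizer ({a} : Set G) with hCdef
  have hCN : normalizer (C : Set G) = C := h C fun hc => hC (ab_of hc)
  have haC : a ∈ C := mem_centralizer_singleton_iff.2 rfl
  have haZ : ∀ g ∈ C, g * a = a * g := fun g hg => mem_centralizer_singleton_iff.1 hg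
  have hsub : ∀ H : Subgroup C, H.Normal → H ≠ ⊤ → Ab H := by
    intro H hH hne
    obtain ⟨g, -, hg⟩ := SetLike.exists_of_lt (lt_top_iff_ne_top.2 hne)
    refine ab_of_map (ab_of_normalized h (g := (g : G)) ?_ ?_)
    · rw [mem_normalizer_iff]
      intro z
      constructor
      · rintro ⟨w, hw, rfl⟩
        exact ⟨g * w * g⁻¹, hH.conj_mem w hw g, rfl⟩
      · rintro ⟨w, hw, hwz⟩
        refine ⟨g⁻¹ * w * g, hH.conj_mem' w hw g, ?_⟩
        simp only [map_mul, map_inv]
        rw [hwz]
        show (g : G)⁻¹ * ((g : G) * z * (g : G)⁻¹) * g = z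
        group
    · rintro ⟨w, hw, he⟩
      exact hg (Subtype.ext he ▸ hw)
  -- transfer
  have hZD : ∀ z : C, z ∈ commutator C → z ∈ center C → z = 1 := by
    intro z hzD hzZ
    by_contra hz1
    have hne : orderOf z ≠ 1 := fun e => hz1 (orderOf_eq_one_iff.1 e)
    set q := (orderOf z).minFac with hq
    haveI : Fact q.Prime := ⟨Nat.minFac_prime hne⟩
    set z' := z ^ (orderOf z / q) with hz'
    have hz'o : orderOf z' = q := by
      rw [hz']; exact orderOf_pow_orderOf_div (orderOf_pos z).ne' (Nat.minFac_dvd _)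
    let S : Sylow q C := default
    have hz'S : z' ∈ (S : Subgroup C) := by
      have hpz : IsPGroup q (zpowers z') := IsPGroup.of_card (n := 1) (by rw [Nat.card_zpowers, hz'o, pow_one])
      have hnz : (zpowers z').Normal := ⟨fun n hn g => by
        rw [mem_center_iff.1 (zpowers_le.2 (pow_mem hzZ _) hn) g, mul_inv_cancel_right]; exact hn⟩
      obtain ⟨R, hR⟩ := hpz.exists_le_sylow
      obtain ⟨g, hg⟩ := MulAction.exists_smul_eq C R S
      have hm : g * z' * g⁻¹ ∈ (S : Subgroup C) := by
        rw [← hg, Fusion.coe_smul_eq_map]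
        exact Fusion.conj_mem_map_conj (hR (mem_zpowers z')) g
      rwa [mem_center_iff.1 (pow_mem hzZ _) g, mul_inv_cancel_right] at hm
    obtain ⟨T, hT⟩ := (S.2.map C.subtype).exists_le_sylow
    haveI : IsMulCommutative (S : Subgroup C) := isMulCommutative_of (ab_of_map fun u hu v hv =>
      sylow_ab h hG T u (hT hu) v (hT hv))
    have hbot := CenterInf.inf_commutator_inf_center (S : Subgroup C) S.card_coprime_index
    have : z' ∈ (⊥ : Subgroup C) := hbot ▸ ⟨⟨hz'S, pow_mem hzD _⟩, pow_mem hzZ _⟩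
    rw [Subgroup.mem_bot.1 this, orderOf_one] at hz'o
    exact (Fact.out : q.Prime).one_lt.ne hz'o
  set az : C := ⟨a, haC⟩ with haz
  have hazZ : az ∈ center C := mem_center_iff.2 fun g => Subtype.ext (haZ g g.2)
  have ha1 : a ≠ 1 := fun e => by rw [e, orderOf_one] at ha; exact (Fact.out : r.Prime).one_lt.ne ha
  have hDne : commutator C ≠ ⊤ := fun e =>
    ha1 (congrArg Subtype.val (hZD az (e ▸ mem_top _) hazZ))
  have hDab : Ab (commutator C) := hsub _ inferInstance hDne
  have hcoatom : ∀ M : Subgroup C, IsCoatom M → commutator C ≤ M → Ab M := fun M hM hle =>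
    hsub M ⟨fun n hn g => by
      have h1 : ⁅g, n⁆ * n ∈ M := mul_mem (hle (by
        rw [_root_.commutator_def]; exact commutator_mem_commutator (mem_top g) (mem_top n))) hn
      rwa [commutatorElement_def, inv_mul_cancel_right] at h1⟩ hM.1
  obtain hbad | ⟨M, hM, hDM⟩ := eq_top_or_exists_le_coatom (commutator C)
  · exact hDne hbad
  have huniq : ∀ M' : Subgroup C, IsCoatom M' → commutator C ≤ M' → M' = M := by
    intro M' hM' hDM'
    by_contra hne
    have htop : M ⊔ M' = ⊤ := hM.2 _ (lt_of_le_of_ne le_sup_left fun e => by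
      have hle : M' ≤ M := e.symm ▸ le_sup_right
      exact hM.1 (hM'.2 _ (lt_of_le_of_ne hle hne)))
    have hD1 : ∀ d ∈ commutator C, d = 1 := by
      intro d hd
      refine hZD d hd (mem_center_iff.2 fun g => ?_)
      have hle : M ⊔ M' ≤ centralizer ({d} : Set C) :=
        sup_le (fun m hm => mem_centralizer_singleton_iff.2 (hcoatom M hM hDM m hm d (hDM hd)))
          (fun m hm => mem_centralizer_singleton_iff.2 (hcoatom M' hM' hDM' m hm d (hDM' hd)))
      exact mem_centralizer_singleton_iff.1 (hle (htop ▸ mem_top g))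
    apply hC
    intro g hg g' hg'
    exact congrArg Subtype.val (commutatorElement_eq_one_iff_mul_comm.1 (hD1 ⁅(⟨g, hg⟩ : C), ⟨g', hg'⟩⁆
      (by rw [_root_.commutator_def]; exact commutator_mem_commutator (mem_top _) (mem_top _))))
  -- an element of prime power order outside `M`
  obtain ⟨q, hqP, y, ⟨k, hyk⟩, hyM⟩ : ∃ q : ℕ, q.Prime ∧ ∃ y : C, (∃ k : ℕ, orderOf y = q ^ k) ∧ y ∉ M := by
    by_contra hcon
    push Not at hcon
    apply hM.1
    rw [eq_top_iff]
    intro g _
    suffices key : ∀ n : ℕ, ∀ g : C, orderOf g = n → g ∈ M from key _ g rfl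
    intro n
    induction n using Nat.strong_induction_on with
    | _ n ih =>
      intro g hg
      rcases eq_or_ne n 1 with hn1 | hn1
      · subst hn1; rw [orderOf_eq_one_iff.1 hg]; exact one_mem _
      have hn0 : n ≠ 0 := fun e => (orderOf_pos g).ne' (hg.trans e)
      set q := n.minFac with hq
      have hqP : q.Prime := Nat.minFac_prime hn1
      obtain ⟨e, m, hqm, he⟩ := Nat.exists_eq_pow_mul_and_not_dvd hn0 q hqP.ne_one
      have hcop : Nat.Coprime (q ^ e) m := ((hqP.coprime_iff_not_dvd).2 hqm).pow_left _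
      have hm0 : m ≠ 0 := fun em => hn0 (by rw [he, em, mul_zero])
      rcases eq_or_ne e 0 with he0 | he0
      · exfalso
        rw [he0, pow_zero, one_mul] at he
        exact hqm (he ▸ Nat.minFac_dvd n)
      have hmem1 : g ^ m ∈ M := by
        refine hcon q hqP _ ⟨e, ?_⟩
        rw [orderOf_pow_of_dvd hm0 (hg ▸ he ▸ Dvd.intro_left _ rfl), hg, he, Nat.mul_div_cancel _ (Nat.pos_of_ne_zero hm0)]
      have hmem2 : g ^ (q ^ e) ∈ M := by
        refine ih m ?_ _ ?_
        · rw [he]; exact lt_mul_of_one_lt_left (Nat.pos_of_ne_zero hm0) (Nat.one_lt_pow he0 hqP.one_lt)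
        · rw [orderOf_pow_of_dvd (pow_ne_zero _ hqP.ne_zero) (hg ▸ he ▸ Dvd.intro _ rfl), hg, he,
            Nat.mul_div_cancel_left _ (pow_pos hqP.pos _)]
      have hbez := Nat.gcd_eq_gcd_ab (q ^ e) m
      rw [hcop] at hbez
      have : g = (g ^ (q ^ e)) ^ (Nat.gcdA (q ^ e) m) * (g ^ m) ^ (Nat.gcdB (q ^ e) m) := by
        rw [← zpow_natCast g (q ^ e), ← zpow_natCast g m, ← zpow_mul, ← zpow_mul, ← zpow_add, ← hbez]
        simp
      rw [this]
      exact mul_mem (zpow_mem hmem2 _) (zpow_mem hmem1 _)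
  haveI : Fact q.Prime := ⟨hqP⟩
  have hgen : commutator C ⊔ zpowers y = ⊤ := by
    rcases eq_top_or_exists_le_coatom (commutator C ⊔ zpowers y) with h1 | ⟨M', hM', hle⟩
    · exact h1
    · exact absurd (huniq M' hM' (le_sup_left.trans hle) ▸ hle (mem_sup_right (mem_zpowers y))) hyM
  have hdec : ∀ g : C, ∃ d ∈ commutator C, ∃ i : ℤ, g = d * y ^ i := by
    intro g
    have hg : g ∈ commutator C ⊔ zpowers y := hgen ▸ mem_top g
    rw [← SetLike.mem_coe, Subgroup.normal_mul, Set.mem_mul] at hg
    obtain ⟨d, hd, w, hw, rfl⟩ := hg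
    obtain ⟨i, rfl⟩ := mem_zpowers_iff.1 hw
    exact ⟨d, hd, i, rfl⟩
  have hdy : ∀ d ∈ commutator C, d * y = y * d → d = 1 := by
    intro d hd hdy
    refine hZD d hd (mem_center_iff.2 fun g => ?_)
    obtain ⟨d', hd', i, rfl⟩ := hdec g
    have h1 : Commute d' d := hDab d' hd' d hd
    exact (h1.mul_left (Commute.zpow_left (show Commute y d from hdy.symm) i)).eq
  obtain ⟨d, hd, i, hai⟩ := hdec az
  have hd1 : d = 1 := hdy d hd (by
    have hay : Commute az y := (mem_center_iff.1 hazZ y).symm
    have he : d = az * (y ^ i)⁻¹ := eq_mul_inv_of_mul_eq hai.symm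
    rw [he]
    exact (hay.mul_left (Commute.zpow_self y i).inv_left).eq)
  rw [hd1, one_mul] at hai
  have hay : a ∈ zpowers (y : G) := mem_zpowers_iff.2 ⟨i, (congrArg Subtype.val hai).symm⟩
  have hyp : IsPGroup q (zpowers (y : G)) :=
    IsPGroup.of_card (n := k) (by rw [Nat.card_zpowers, Subgroup.orderOf_coe, hyk])
  obtain ⟨P, hP⟩ := hyp.exists_le_sylow
  have hPab := sylow_ab h hG P
  have hPC : (P : Subgroup G) ≤ C := fun w hw =>
    mem_centralizer_singleton_iff.2 (hPab w hw a (hP hay))
  have hPeq : (P : Subgroup G) = zpowers (y : G) := by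
    refine le_antisymm (fun w hw => ?_) hP
    obtain ⟨e, he, j, hej⟩ := hdec ⟨w, hPC hw⟩
    have he1 : e = 1 := hdy e he (by
      have hwy : Commute (⟨w, hPC hw⟩ : C) y := Subtype.ext (hPab w hw y (hP (mem_zpowers _)))
      rw [eq_mul_inv_of_mul_eq hej.symm]
      exact (hwy.mul_left (Commute.zpow_self y j).inv_left).eq)
    rw [he1, one_mul] at hej
    exact mem_zpowers_iff.2 ⟨j, (congrArg Subtype.val hej).symm⟩
  haveI hcyc : IsCyclic (P : Subgroup G) := by rw [hPeq]; infer_instance
  have hP' : ∀ n ∈ normalizer ((P : Subgroup G) : Set G), n ∈ centralizer ((P : Subgroup G) : Set G) := by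
    intro n hn
    have hna : n * a * n⁻¹ ∈ (P : Subgroup G) := (mem_normalizer_iff.1 hn a).1 (hP hay)
    have haP : a ∈ (P : Subgroup G) := hP hay
    have hna' : n * a * n⁻¹ ∈ zpowers a := by
      have hoo : orderOf (n * a * n⁻¹) = r := by rw [orderOf_conj_eq, ha]
      letI := Fintype.ofFinite (P : Subgroup G)
      have hle := IsCyclic.card_pow_eq_one_le (α := (P : Subgroup G)) (Fact.out : r.Prime).pos
      let A : Subgroup (P : Subgroup G) := zpowers ⟨a, haP⟩
      letI := Fintype.ofFinite A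
      have hsub : A.carrier.toFinset ⊆ Finset.univ.filter (fun w : (P : Subgroup G) => w ^ r = 1) := by
        intro w hw
        rw [Set.mem_toFinset] at hw
        obtain ⟨j, rfl⟩ := mem_zpowers_iff.1 hw
        refine Finset.mem_filter.2 ⟨Finset.mem_univ _, ?_⟩
        rw [← zpow_natCast, ← zpow_mul, mul_comm, zpow_mul, zpow_natCast]
        have : (⟨a, haP⟩ : (P : Subgroup G)) ^ r = 1 := Subtype.ext (by
          rw [SubmonoidClass.coe_pow, ← ha, pow_orderOf_eq_one]; rfl)
        rw [this, one_zpow]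
      have hcardA : A.carrier.toFinset.card = r := by
        rw [Set.toFinset_card, ← Nat.card_eq_fintype_card]
        show Nat.card A = r
        rw [Nat.card_zpowers, Subgroup.orderOf_mk, ha]
      have heq := Finset.eq_of_subset_of_card_le hsub (hcardA ▸ hle)
      have hmem : (⟨n * a * n⁻¹, hna⟩ : (P : Subgroup G)) ∈ A.carrier.toFinset := by
        rw [heq]
        refine Finset.mem_filter.2 ⟨Finset.mem_univ _, Subtype.ext ?_⟩
        rw [SubmonoidClass.coe_pow, ← hoo, pow_orderOf_eq_one]; rfl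
      rw [Set.mem_toFinset] at hmem
      obtain ⟨j, hj⟩ := mem_zpowers_iff.1 hmem
      exact mem_zpowers_iff.2 ⟨j, congrArg Subtype.val hj⟩
    have hnC : n ∈ C := by
      have haa : zpowers (n * a * n⁻¹) = zpowers a := eq_of_le_of_card_ge (zpowers_le.2 hna')
        (by rw [Nat.card_zpowers, Nat.card_zpowers, orderOf_conj_eq])
      rw [← hCN, mem_normalizer_iff]
      intro w
      have key : ∀ v : G, v ∈ C ↔ Commute v (n * a * n⁻¹) := fun v => by
        rw [hCdef, mem_centralizer_singleton_iff]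
        constructor
        · intro hv
          obtain ⟨j, hj⟩ := mem_zpowers_iff.1 hna'
          rw [← hj]; exact Commute.zpow_right hv j
        · intro hv
          obtain ⟨j, hj⟩ := mem_zpowers_iff.1 (haa.symm ▸ mem_zpowers a)
          have := Commute.zpow_right hv j
          rw [hj] at this
          exact this
      rw [key (n * w * n⁻¹), Commute.conj_iff, hCdef, mem_centralizer_singleton_iff]
      rfl
    obtain ⟨e, he, j, hej⟩ := hdec ⟨n, hnC⟩
    have hejG : n = (e : G) * (y : G) ^ j := congrArg Subtype.val hej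
    have heN : (e : G) ∈ normalizer ((P : Subgroup G) : Set G) := by
      rw [eq_mul_inv_of_mul_eq hejG.symm]
      exact mul_mem hn (inv_mem (zpow_mem (le_normalizer (hP (mem_zpowers (y : G)))) j))
    have hcomm : (⁅e, y⁆ : C) = 1 := by
      have h1 : (⁅e, y⁆ : C) ∈ commutator C := by
        rw [_root_.commutator_def]; exact commutator_mem_commutator (mem_top _) (mem_top _)
      have h2 : ((⁅e, y⁆ : C) : G) ∈ (P : Subgroup G) := by
        have h3 : (e : G) * y * (e : G)⁻¹ ∈ (P : Subgroup G) :=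
          (mem_normalizer_iff.1 heN _).1 (hP (mem_zpowers _))
        exact mul_mem h3 (inv_mem (hP (mem_zpowers (y : G))))
      refine hdy _ h1 (Subtype.ext ?_)
      exact hPab _ h2 _ (hP (mem_zpowers _))
    have he1 : e = 1 := hdy e he (commutatorElement_eq_one_iff_mul_comm.1 hcomm)
    rw [hejG, he1, OneMemClass.coe_one, one_mul]
    exact mem_centralizer_iff.2 fun w hw => hPab w hw _ (zpow_mem (hP (mem_zpowers (y : G))) j)
  have hcompl := MonoidHom.ker_transferSylow_isComplement' P hP'
  have hPbot : (P : Subgroup G) ≠ ⊥ := fun e => ha1 (by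
    have := hP hay
    rwa [e, Subgroup.mem_bot] at this)
  rcases (MonoidHom.transferSylow P hP').normal_ker.eq_bot_or_eq_top with h1 | h1
  · rw [h1, Subgroup.isComplement'_bot_left] at hcompl
    apply hG
    exact ⟨⟨fun s t => hPab s (hcompl ▸ mem_top s) t (hcompl ▸ mem_top t)⟩⟩
  · rw [h1, Subgroup.isComplement'_top_left] at hcompl
    exact hPbot hcompl

include h hG in
/-- Commuting is transitive on the non-identity elements. -/
theorem comm_transitive (a b c : G) (_ha : a ≠ 1) (hb : b ≠ 1) (_hc : c ≠ 1) (hab : Commute a b)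
    (hbc : Commute b c) : Commute a c := by
  have hne : orderOf b ≠ 1 := fun e => hb (orderOf_eq_one_iff.1 e)
  set r := (orderOf b).minFac with hr
  haveI : Fact r.Prime := ⟨Nat.minFac_prime hne⟩
  have ho : orderOf (b ^ (orderOf b / r)) = r :=
    orderOf_pow_orderOf_div (orderOf_pos b).ne' (Nat.minFac_dvd _)
  exact centralizer_ab h hG ho a (mem_centralizer_singleton_iff.2 (hab.pow_right _).eq) c
    (mem_centralizer_singleton_iff.2 (hbc.symm.pow_right _).eq)

end SelfNorm4073
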