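import Mathlib
import Cfsg.Agent.SelfNorm.Forward
import Cfsg.Agent.Lib.Forms.DicksonList
import Cfsg.Agent.CTGroup.EvenPSL
import Cfsg.Agent.Lib.Classical.SmallIso
import Cfsg.Agent.Lib.Classical.GL2
import Cfsg.Agent.Lib.Classical.Linear

/-!
Self-normalising non-abelian subgroups in `PSL₂(2ⁿ)`.
-/

set_option autoImplicit false

namespace SelfNorm4073

open Subgroup Cfsg.Agent Cfsg.Agent.Forms
open scoped MatrixGroups

/-- Every non-abelian subgroup is self-normalising. -/
def SelfN (G : Type*) [Group G] : Prop :=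
  ∀ H : Subgroup G, ¬ Ab H → normalizer (H : Set G) ≤ H

lemma selfN_congr {G K : Type*} [Group G] [Group K] (e : G ≃* K) (h : SelfN G) : SelfN K := by
  intro H hH k hk
  have h1 : ¬ Ab (H.comap e.toMonoidHom) := fun hab => hH fun a ha b hb => e.symm.injective (by
    rw [map_mul, map_mul]
    exact hab _ (by simpa using ha) _ (by simpa using hb))
  have h2 : e.symm k ∈ normalizer ((H.comap e.toMonoidHom : Subgroup G) : Set G) := by
    rw [mem_normalizer_iff]
    intro x
    simpa using mem_normalizer_iff.1 hk (e x)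
  simpa using h _ h1 h2

/-- Normal non-abelian subgroups are everything. -/
def NAbTop (D : Type*) [Group D] : Prop := ∀ K : Subgroup D, K.Normal → ¬ Ab K → K = ⊤

lemma eq_of_nAbTop {G D : Type*} [Group G] [Group D] {H M : Subgroup G} (e : M ≃* D) (hD : NAbTop D)
    (hHM : H ≤ M) (hn : (H.subgroupOf M).Normal) (hH : ¬ Ab H) : M ≤ H := by
  intro m hm
  have h1 := hD ((H.subgroupOf M).map e.toMonoidHom) (hn.map _ e.surjective) fun hab => hH fun a ha b hb => by
    have h2 := hab _ (mem_map_of_mem e.toMonoidHom (show (⟨a, hHM ha⟩ : M) ∈ H.subgroupOf M from ha))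
      _ (mem_map_of_mem e.toMonoidHom (show (⟨b, hHM hb⟩ : M) ∈ H.subgroupOf M from hb))
    rw [← map_mul, ← map_mul] at h2
    exact congrArg Subtype.val (e.injective h2)
  obtain ⟨x, hx, hxe⟩ := (h1 ▸ mem_top (e ⟨m, hm⟩) : e ⟨m, hm⟩ ∈ _)
  rw [e.injective hxe] at hx
  exact hx

lemma nAbTop_of_isSimple (D : Type*) [Group D] [IsSimpleGroup D] : NAbTop D := fun K hK hna =>
  hK.eq_bot_or_eq_top.resolve_left fun h => hna fun a ha b hb => by
    rw [h, Subgroup.mem_bot] at ha hb
    rw [ha, hb]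

lemma nAbTop_dihedral {m : ℕ} (hm : Odd m) : NAbTop (DihedralGroup m) := by
  intro K hK hna
  obtain ⟨j, hj⟩ := hm
  have h2 : (2 : ZMod m) * ((j + 1 : ℕ) : ZMod m) = 1 := by
    have : ((2 * (j + 1) : ℕ) : ZMod m) = ((m + 1 : ℕ) : ZMod m) := by congr 1; omega
    simpa using this
  obtain ⟨i, hi⟩ : ∃ i, DihedralGroup.sr i ∈ K := by
    by_contra hcon
    push Not at hcon
    apply hna
    rintro (a | a) ha (b | b) hb
    · rw [DihedralGroup.r_mul_r, DihedralGroup.r_mul_r, add_comm]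
    all_goals first | exact absurd ha (hcon _) | exact absurd hb (hcon _)
  have hsr : ∀ k, DihedralGroup.sr k ∈ K := by
    intro k
    have := hK.conj_mem _ hi (DihedralGroup.r ((i - k) * ((j + 1 : ℕ) : ZMod m)))
    convert this using 1
    rw [DihedralGroup.r_mul_sr, DihedralGroup.inv_r, DihedralGroup.sr_mul_r]
    congr 1
    linear_combination (i - k) * h2
  rw [eq_top_iff]
  rintro (k | k) -
  · have := mul_mem (hsr 0) (hsr k)
    rwa [DihedralGroup.sr_mul_sr, sub_zero] at this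
  · exact hsr k

lemma nAbTop_a4 : NAbTop (alternatingGroup (Fin 4)) := by
  intro K hK hna
  have h1 : ∀ a b : alternatingGroup (Fin 4), a * a = 1 → b * b = 1 → a * b = b * a := by decide
  have h2 : ∀ a g : alternatingGroup (Fin 4), a * a ≠ 1 → ∃ u, g = a * (u * a * u⁻¹)⁻¹ ∨
      g = a * (a * (u * a * u⁻¹)⁻¹) ∨ g = a * (a * (a * (u * a * u⁻¹)⁻¹)) := by decide +kernel
  obtain ⟨a, ha, haa⟩ : ∃ a ∈ K, a * a ≠ 1 := by
    by_contra hcon
    push Not at hcon
    exact hna fun a ha b hb => h1 a b (hcon a ha) (hcon b hb)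
  rw [eq_top_iff]
  intro g _
  obtain ⟨u, h | h | h⟩ := h2 a g haa <;> subst h
  all_goals repeat (first | exact ha | exact inv_mem (hK.conj_mem a ha u) | refine mul_mem ha ?_)

/-- An element acting freely on a finite subgroup has order dividing its order less one. -/
lemma orderOf_dvd_card_sub_one {G : Type*} [Group G] [Finite G] (A : Subgroup G) (m : G)
    (hn : ∀ k ∈ zpowers m, ∀ a ∈ A, k * a * k⁻¹ ∈ A)
    (hfree : ∀ k ∈ zpowers m, ∀ a ∈ A, Commute k a → a = 1 ∨ k = 1) :
    orderOf m ∣ Nat.card A - 1 := by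
  classical
  let Y := {a : A // a ≠ 1}
  letI : MulAction (zpowers m) Y :=
    { smul := fun k a => ⟨⟨(k : G) * (a.1 : G) * (k : G)⁻¹, hn _ k.2 _ a.1.2⟩,
        fun e => a.2 (Subtype.ext (conj_eq_one_iff.1 (congrArg Subtype.val e)))⟩
      one_smul := fun a => Subtype.ext (Subtype.ext (show (1 : G) * (a.1 : G) * (1 : G)⁻¹ = a.1 by group))
      mul_smul := fun k l a => Subtype.ext (Subtype.ext
        (show ((k : G) * l) * (a.1 : G) * ((k : G) * l)⁻¹ = k * (l * (a.1 : G) * (l : G)⁻¹) * (k : G)⁻¹ by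
          group)) }
  have hY : Nat.card Y = Nat.card A - 1 := by
    haveI := Fintype.ofFinite A
    rw [Nat.card_eq_fintype_card, Fintype.card_subtype_compl, Fintype.card_subtype_eq,
      Nat.card_eq_fintype_card]
  rw [← hY, ← Nat.card_zpowers]
  refine DicksonBasic.dvd_card_of_index (K := zpowers m) fun y => ?_
  have hb : MulAction.stabilizer (zpowers m) y = ⊥ := by
    rw [eq_bot_iff]
    intro k hk
    have h1 : (k : G) * (y.1 : G) * (k : G)⁻¹ = y.1 :=
      congrArg (fun t : Y => ((t.1 : A) : G)) (MulAction.mem_stabilizer_iff.1 hk)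
    rcases hfree _ k.2 _ y.1.2 (mul_inv_eq_iff_eq_mul.1 h1) with h | h
    · exact absurd (Subtype.ext h) y.2
    · exact Subgroup.mem_bot.2 (Subtype.ext h)
  rw [hb, index_bot]

variable {F : Type*} [Field F] [Fintype F] [CharP F 2]

local notation "PG" => Matrix.ProjectiveSpecialLinearGroup (Fin 2) F

lemma natCard_pg : Nat.card PG =
    Fintype.card F * ((Fintype.card F - 1) * (Fintype.card F + 1)) := by
  have : Fact (Nat.Prime 2) := ⟨Nat.prime_two⟩
  rw [← Classical.GL2.natCard_SL_two, ← Classical.SmallIso.natCard_pslTwo F]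
  obtain ⟨n, -, hn⟩ := FiniteField.card F 2
  have hg : Nat.Coprime 2 (Fintype.card F - 1) := by
    refine (Nat.prime_two.coprime_iff_not_dvd).2 ?_
    have h1 : 2 ∣ Fintype.card F := hn ▸ dvd_pow_self 2 n.ne_zero
    have h2 := Fintype.one_lt_card (α := F)
    omega
  rw [show Nat.gcd 2 (Fintype.card F - 1) = 1 from hg, one_mul]

variable [IsSimpleGroup (Matrix.ProjectiveSpecialLinearGroup (Fin 2) F)]
  {n : ℕ} (hn : 2 ≤ n) (hq : Fintype.card F = 2 ^ n) (hp : (2 ^ n - 1).Prime)

include hn hq hp in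
/-- The converse direction. -/
theorem selfN_psl : SelfN PG := by
  classical
  have h2 : Fact (Nat.Prime 2) := ⟨Nat.prime_two⟩
  have hnp : n.Prime := (Nat.prime_of_pow_sub_one_prime (by omega) hp).2
  have h4 : 4 ≤ 2 ^ n := by
    calc 4 = 2 ^ 2 := rfl
      _ ≤ 2 ^ n := Nat.pow_le_pow_right (by norm_num) hn
  have heven : 2 ∣ 2 ^ n := dvd_pow_self 2 (by omega)
  have hcard : Nat.card PG = 2 ^ n * ((2 ^ n - 1) * (2 ^ n + 1)) := by rw [natCard_pg, hq]
  intro H hH
  set M := normalizer (H : Set PG) with hMdef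
  have hHM : H ≤ M := le_normalizer
  have hnorm : (H.subgroupOf M).Normal := Subgroup.normal_in_normalizer
  have hT := DicksonAction.twoPt (F := F) 2
  have htop : M = ⊤ → M ≤ H := by
    intro hM
    have hHn : H.Normal := Subgroup.normalizer_eq_top_iff.1 hM
    rcases hHn.eq_bot_or_eq_top with h | h
    · exact absurd (fun a ha b hb => by rw [h, Subgroup.mem_bot] at ha hb; rw [ha, hb]) hH
    · rw [h]; exact le_top
  rcases DicksonList.classify 2 M with ⟨g, hg, hodd, ⟨hc, -⟩ | ⟨e⟩⟩ | ⟨x, hx, hfix⟩ | ⟨e⟩ | ⟨e⟩ | ⟨e⟩ |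
      ⟨K, iK, iK', m, hKm, hK⟩
  · refine absurd (fun a ha b hb => ?_) hH
    have := hc
    obtain ⟨t, ht⟩ := IsCyclic.exists_generator (α := M)
    obtain ⟨i, hi⟩ := mem_zpowers_iff.1 (ht ⟨a, hHM ha⟩)
    obtain ⟨j, hj⟩ := mem_zpowers_iff.1 (ht ⟨b, hHM hb⟩)
    have h := (Commute.zpow_zpow_self t i j).eq
    rw [hi, hj] at h
    exact congrArg Subtype.val h
  · obtain ⟨e⟩ := e
    exact eq_of_nAbTop e (nAbTop_dihedral (Nat.odd_iff.2 (Nat.two_dvd_ne_zero.1 hodd))) hHM hnorm hH
  · -- Borel case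
    set A := hT.pSub x with hA
    obtain ⟨P, hP⟩ := hT.exists_sylow_eq hx
    have hAcard : Nat.card A = 2 ^ n := by
      have h1 : 2 ^ n ∣ Nat.card (P : Subgroup PG) :=
        P.pow_dvd_card_of_pow_dvd_card (hcard ▸ Dvd.intro _ rfl)
      obtain ⟨k, hk⟩ := IsPGroup.iff_card.1 P.2
      rw [← hA] at hP
      rw [← hP]
      refine Nat.dvd_antisymm ?_ h1
      have hc : Nat.Coprime (Nat.card (P : Subgroup PG)) ((2 ^ n - 1) * (2 ^ n + 1)) := by
        rw [hk]
        refine Nat.Coprime.pow_left k (Nat.Coprime.mul_right ?_ ?_) <;>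
          · refine (Nat.prime_two.coprime_iff_not_dvd).2 ?_
            omega
      exact hc.dvd_of_dvd_mul_right (hcard ▸ Subgroup.card_subgroup_dvd_card _)
    have hcen : ∀ k ∈ M, ∀ a ∈ A, Commute k a → a = 1 ∨ k ∈ A := by
      intro k hk a ha hc
      by_cases ha1 : a = 1
      · exact Or.inl ha1
      exact Or.inr (hT.cent_p (hT.orderOf_of_mem ha ha1) ha.1 hc)
    have hord : ∀ k ∈ M, k ∉ A → k ^ (2 ^ n - 1) = 1 := by
      intro k hk hkA
      have hk2 : ¬ 2 ∣ orderOf k := fun h => hkA ⟨hfix k hk, by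
        have h1 := pow_orderOf_eq_one k
        rwa [hT.orderOf_eq h] at h1⟩
      apply orderOf_dvd_iff_pow_eq_one.1
      rw [← hAcard]
      refine orderOf_dvd_card_sub_one A k (fun l hl a ha => hT.conj_mem_pSub (hfix l ((zpowers_le.2 hk) hl)) ha)
        fun l hl a ha hc => ?_
      rcases hcen l (zpowers_le.2 hk hl) a ha hc with h | h
      · exact Or.inl h
      · refine Or.inr (orderOf_eq_one_iff.1 (Nat.eq_one_of_dvd_coprimes
          ((Nat.prime_two.coprime_iff_not_dvd).2 hk2) (orderOf_dvd_of_pow_eq_one h.2)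
          (orderOf_dvd_of_mem_zpowers hl)))
    obtain ⟨h, hhH, hhA⟩ : ∃ h ∈ H, h ∉ A := by
      by_contra hcon
      push Not at hcon
      exact hH fun a ha b hb => hT.pSub_comm (hcon a ha) (hcon b hb)
    set U := M ⊓ A with hU
    have hUH : U ≤ H := by
      have hmem : ∀ u : U, (u : PG) * (h * (u : PG)⁻¹ * h⁻¹) ∈ U := fun u => by
        refine mul_mem u.2 (mem_inf.2 ⟨?_, ?_⟩)
        · exact mul_mem (mul_mem (hHM hhH) (inv_mem u.2.1)) (inv_mem (hHM hhH))
        · exact hT.conj_mem_pSub (hfix h (hHM hhH)) (inv_mem u.2.2)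
      let f : U → U := fun u => ⟨(u : PG) * (h * (u : PG)⁻¹ * h⁻¹), hmem u⟩
      have hinj : Function.Injective f := by
        intro u v huv
        have e : (u : PG) * (h * (u : PG)⁻¹ * h⁻¹) = v * (h * (v : PG)⁻¹ * h⁻¹) := congrArg Subtype.val huv
        have hc : Commute h ((v : PG)⁻¹ * u) := by
          show h * ((v : PG)⁻¹ * u) = (v : PG)⁻¹ * u * h
          calc h * ((v : PG)⁻¹ * u) = (v : PG)⁻¹ * ((v : PG) * (h * (v : PG)⁻¹ * h⁻¹)) * h * u := by group
            _ = (v : PG)⁻¹ * ((u : PG) * (h * (u : PG)⁻¹ * h⁻¹)) * h * u := by rw [e]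
            _ = (v : PG)⁻¹ * u * h := by group
        rcases hcen h (hHM hhH) _ (mul_mem (inv_mem v.2.2) u.2.2) hc with h' | h'
        · exact Subtype.ext (inv_mul_eq_one.1 h').symm
        · exact absurd h' hhA
      intro u hu
      obtain ⟨v, hv⟩ := Finite.injective_iff_surjective.1 hinj ⟨u, hu⟩
      have hv' : (v : PG) * (h * (v : PG)⁻¹ * h⁻¹) = u := congrArg Subtype.val hv
      rw [← hv', show (v : PG) * (h * (v : PG)⁻¹ * h⁻¹) = ((v : PG) * h * (v : PG)⁻¹) * h⁻¹ by group]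
      exact mul_mem ((mem_normalizer_iff.1 v.2.1 h).1 hhH) (inv_mem hhH)
    -- the index of `U` in `M` is at most the prime `q - 1`
    haveI hUn : (U.subgroupOf M).Normal := ⟨fun a ha g => by
      rw [mem_subgroupOf] at ha ⊢
      exact mem_inf.2 ⟨(g * a * g⁻¹ : M).2, hT.conj_mem_pSub (hfix g g.2) ha.2⟩⟩
    have hpf : Fact (2 ^ n - 1).Prime := ⟨hp⟩
    have hQ : IsPGroup (2 ^ n - 1) (M ⧸ U.subgroupOf M) := by
      intro q
      obtain ⟨a, rfl⟩ := QuotientGroup.mk_surjective q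
      refine ⟨1, ?_⟩
      rw [pow_one, ← QuotientGroup.mk_pow, QuotientGroup.eq_one_iff, mem_subgroupOf,
        SubmonoidClass.coe_pow]
      by_cases haA : (a : PG) ∈ A
      · exact pow_mem (mem_inf.2 ⟨a.2, haA⟩) _
      · rw [hord _ a.2 haA]; exact one_mem _
    obtain ⟨k, hk⟩ := IsPGroup.iff_card.1 hQ
    rw [← Subgroup.index_eq_card] at hk
    have hk1 : k ≤ 1 := by
      by_contra hk1
      have hd : (2 ^ n - 1) ^ 2 ∣ 2 ^ n * ((2 ^ n - 1) * (2 ^ n + 1)) := by
        rw [← hcard]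
        exact ((pow_dvd_pow _ (by omega)).trans (hk ▸ Subgroup.index_dvd_card _)).trans
          (Subgroup.card_subgroup_dvd_card M)
      have hco : ∀ t, ¬ (2 ^ n - 1) ∣ t → Nat.Coprime ((2 ^ n - 1) ^ 2) t := fun t ht =>
        Nat.Coprime.pow_left _ (hp.coprime_iff_not_dvd.2 ht)
      have h1 := (hco (2 ^ n) (fun hd' => by
        have := Nat.dvd_sub hd' (dvd_refl (2 ^ n - 1))
        rw [show 2 ^ n - (2 ^ n - 1) = 1 by omega] at this
        exact hp.one_lt.ne' (Nat.dvd_one.1 this))).dvd_of_dvd_mul_left hd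
      have h2' := (hco (2 ^ n + 1) (fun hd' => by
        have := Nat.dvd_sub hd' (dvd_refl (2 ^ n - 1))
        rw [show 2 ^ n + 1 - (2 ^ n - 1) = 2 by omega] at this
        have := Nat.le_of_dvd (by norm_num) this
        omega)).dvd_of_dvd_mul_right h1
      have := Nat.le_of_dvd (by omega) h2'
      rw [pow_two] at this
      nlinarith [hp.two_le]
    have hmul := Subgroup.relIndex_mul_relIndex U H M hUH hHM
    have hUM : U.relIndex M = (2 ^ n - 1) ^ k := hk
    rw [hUM] at hmul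
    have hne : U.relIndex H ≠ 1 := fun e1 => hhA ((relIndex_eq_one.1 e1) hhH).2
    rw [← relIndex_eq_one]
    rcases (Nat.le_one_iff_eq_zero_or_eq_one.1 hk1) with rfl | rfl
    · rw [pow_zero] at hmul
      exact absurd (Nat.eq_one_of_mul_eq_one_right hmul) hne
    · rw [pow_one] at hmul
      rcases (Nat.dvd_prime hp).1 (Dvd.intro _ hmul) with h1 | h1
      · exact absurd h1 hne
      · rw [h1] at hmul
        exact Nat.eq_of_mul_eq_mul_left hp.pos (hmul.trans (mul_one _).symm)
  · obtain ⟨e⟩ := e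
    exact eq_of_nAbTop e nAbTop_a4 hHM hnorm hH
  · -- no elements of order four
    exfalso
    obtain ⟨e⟩ := e
    set a : Equiv.Perm (Fin 4) := finRotate 4 with ha
    have h1 : orderOf (e.symm a : PG) = 4 := by
      rw [Subgroup.orderOf_coe, MulEquiv.orderOf_eq, ha]
      exact orderOf_eq_prime_pow (p := 2) (n := 1) (by decide) (by decide)
    have := hT.orderOf_eq (g := (e.symm a : PG)) (by rw [h1]; norm_num)
    omega
  · obtain ⟨e⟩ := e
    haveI := alternatingGroup.isSimpleGroup (α := Fin 5) (by simp)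
    exact eq_of_nAbTop e (nAbTop_of_isSimple _) hHM hnorm hH
  · -- subfield subgroups
    obtain ⟨ℓ, -, ⟨r, hr0⟩, hℓ, hr⟩ := FiniteField.card' K
    have hℓ2 : ℓ = 2 := by
      have h : ℓ ∣ 2 ^ n := by
        rw [← hq, ← hKm, hr]
        exact dvd_pow (dvd_pow_self _ hr0.ne') (fun e => by
          rw [e, pow_zero, hq] at hKm; omega)
      exact (Nat.prime_dvd_prime_iff_eq hℓ Nat.prime_two).1 (hℓ.dvd_of_dvd_pow h)
    subst hℓ2
    have hrn : r * m = n := by
      apply Nat.pow_right_injective (le_refl 2)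
      show 2 ^ (r * m) = 2 ^ n
      rw [pow_mul, ← hq, ← hKm, hr]
      rfl
    have hSL : Nat.card M = 2 ^ r * ((2 ^ r - 1) * (2 ^ r + 1)) := by
      have hr' : Fintype.card K = 2 ^ r := hr
      rcases hK with he | he <;> obtain ⟨e⟩ := he
      · haveI : CharP K 2 := charP_of_card_eq_prime_pow (f := r) (by rw [hr']) 
        rw [Nat.card_congr e.toEquiv, natCard_pg, hr']
      · rw [Nat.card_congr e.toEquiv, Classical.Linear.natCard_PGL, Classical.GL2.natCard_SL_two, hr']
    rcases (Nat.dvd_prime hnp).1 (Dvd.intro _ hrn) with h1 | h1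
    · subst h1
      norm_num [-Nat.card_eq_fintype_card] at hSL
      intro y hy
      have hd : Nat.card H ∣ 6 := hSL ▸ Subgroup.card_dvd_of_le hHM
      have heq : H = M := by
        refine Subgroup.eq_of_le_of_card_ge hHM ?_
        rw [hSL]
        by_contra hlt
        push Not at hlt
        apply hH
        have hpr : Nat.card H = 1 ∨ (Nat.card H).Prime := by
          have hmem := Nat.mem_divisors.2 ⟨hd, by norm_num⟩
          rw [show Nat.divisors 6 = {1, 2, 3, 6} by decide] at hmem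
          simp only [Finset.mem_insert, Finset.mem_singleton] at hmem
          rcases hmem with h | h | h | h <;> rw [h] at hlt ⊢ <;> first | omega | norm_num
        rcases hpr with h | h
        · intro a ha b hb
          rw [(Subgroup.card_eq_one).1 h, Subgroup.mem_bot] at ha hb
          rw [ha, hb]
        · haveI : Fact (Nat.card H).Prime := ⟨h⟩
          haveI : IsCyclic H := isCyclic_of_prime_card rfl
          exact ab_of inferInstance
      rw [heq]; exact hy
    · subst h1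
      exact htop (Subgroup.eq_top_of_card_eq _ (hSL.trans hcard.symm))

omit [IsSimpleGroup (Matrix.ProjectiveSpecialLinearGroup (Fin 2) F)] in
include hn hq in
/-- The forward direction. -/
theorem prime_of_selfN (h : SelfN PG) : (2 ^ n - 1).Prime := by
  classical
  have h2 : Fact (Nat.Prime 2) := ⟨Nat.prime_two⟩
  have h4 : 4 ≤ 2 ^ n := by
    calc 4 = 2 ^ 2 := rfl
      _ ≤ 2 ^ n := Nat.pow_le_pow_right (by norm_num) hn
  by_contra hpr
  set N := 2 ^ n - 1 with hN
  set s := N.minFac with hs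
  have hsp : s.Prime := Nat.minFac_prime (by omega)
  haveI : Fact s.Prime := ⟨hsp⟩
  have hsN : s ∣ N := Nat.minFac_dvd N
  have hslt : s < N := lt_of_le_of_ne (Nat.minFac_le (by omega)) fun e => hpr (e ▸ hsp)
  obtain ⟨ζ, hζ⟩ := IsCyclic.exists_generator (α := Fˣ)
  have hζo : orderOf ζ = N := by
    rw [orderOf_eq_card_of_forall_mem_zpowers hζ, Nat.card_units, Nat.card_eq_fintype_card, hq]
  let dg : Fˣ → SL(2, F) := fun a => ⟨!![(a : F), 0; 0, ((a⁻¹ : Fˣ) : F)], by simp [Matrix.det_fin_two]⟩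
  have hdg : ∀ a : Fˣ, ((dg a : SL(2, F)) : Matrix (Fin 2) (Fin 2) F) = !![(a : F), 0; 0, ((a⁻¹ : Fˣ) : F)] :=
    fun _ => rfl
  let B : Subgroup SL(2, F) :=
    { carrier := {X | (X : Matrix (Fin 2) (Fin 2) F) 1 0 = 0 ∧ ((X : Matrix (Fin 2) (Fin 2) F) 0 0) ^ s = 1}
      one_mem' := by simp
      mul_mem' := by
        rintro X Y ⟨hX, hX'⟩ ⟨hY, hY'⟩
        simp [Matrix.mul_apply, Fin.sum_univ_two, hX, hY, mul_pow, hX', hY']
      inv_mem' := by
        rintro X ⟨hX, hX'⟩
        have hd := Matrix.SpecialLinearGroup.det_coe X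
        rw [Matrix.det_fin_two, hX, mul_zero, sub_zero] at hd
        have : ((X : Matrix (Fin 2) (Fin 2) F) 0 0 * (X : Matrix (Fin 2) (Fin 2) F) 1 1) ^ s = 1 := by
          rw [hd, one_pow]
        rw [mul_pow, hX', one_mul] at this
        simp [Matrix.SpecialLinearGroup.coe_inv, Matrix.adjugate_fin_two, hX, this] }
  have hmemB : ∀ X : SL(2, F), X ∈ B ↔
      ((X : Matrix (Fin 2) (Fin 2) F) 1 0 = 0 ∧ ((X : Matrix (Fin 2) (Fin 2) F) 0 0) ^ s = 1) :=
    fun _ => Iff.rfl
  have hneg : (-1 : SL(2, F)) = 1 := by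
    refine Subtype.ext ?_
    rw [Matrix.SpecialLinearGroup.coe_neg, Matrix.SpecialLinearGroup.coe_one]
    ext i j
    simp [CharTwo.neg_eq]
  have hinj : Function.Injective (KleinPSL.pi F) := by
    intro X Y hXY
    rcases KleinPSL.pi_eq_iff.1 hXY with h | h
    · exact h
    · rw [h, ← neg_one_mul, hneg, one_mul]
  -- `B` is not abelian
  set a := ζ ^ (N / s) with ha
  have hao : orderOf a = s := by
    rw [ha, ← hζo]
    exact orderOf_pow_orderOf_div (by omega) (hζo.symm ▸ hsN)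
  let u : SL(2, F) := ⟨!![1, 1; 0, 1], by simp [Matrix.det_fin_two]⟩
  have hdB : dg a ∈ B := by
    rw [hmemB]
    refine ⟨by simp [dg], ?_⟩
    have : (a ^ s : Fˣ) = 1 := hao ▸ pow_orderOf_eq_one a
    simp [dg, ← Units.val_pow_eq_pow_val, this]
  have huB : u ∈ B := by rw [hmemB]; simp [u]
  have hnab : ¬ Ab (B.map (KleinPSL.pi F)) := by
    intro hab
    have h1 := hab _ (mem_map_of_mem _ hdB) _ (mem_map_of_mem _ huB)
    rw [← map_mul, ← map_mul] at h1
    have h2 := congrFun (congrFun (congrArg Subtype.val (hinj h1)) 0) 1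
    rw [Matrix.SpecialLinearGroup.coe_mul, Matrix.SpecialLinearGroup.coe_mul, hdg,
      show ((u : SL(2, F)) : Matrix (Fin 2) (Fin 2) F) = !![1, 1; 0, 1] from rfl] at h2
    simp [Matrix.mul_apply, Fin.sum_univ_two] at h2
    have h3 : (a : F) ^ 2 = 1 := by
      rw [pow_two]
      nth_rw 2 [h2]
      simp
    have h5 : ((a : F) - 1) ^ 2 = 0 := by rw [sub_pow_char, h3, one_pow, sub_self]
    have h6 : a = 1 := Units.ext (by simpa [sub_eq_zero] using h5)
    rw [h6, orderOf_one] at hao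
    exact hsp.one_lt.ne hao
  -- it is normalised by an element outside it
  have hconj : ∀ b : Fˣ, ∀ X ∈ B, dg b * X * (dg b)⁻¹ ∈ B := by
    intro b X hX
    rw [hmemB] at hX ⊢
    have h0 : (b : F) ≠ 0 := b.ne_zero
    refine ⟨?_, ?_⟩
    · simp [hdg, Matrix.SpecialLinearGroup.coe_mul, Matrix.mul_apply, Fin.sum_univ_two,
        Matrix.SpecialLinearGroup.coe_inv, Matrix.adjugate_fin_two, Matrix.vecMul, dotProduct, hX.1]
    · simp [hdg, Matrix.SpecialLinearGroup.coe_mul, Matrix.mul_apply, Fin.sum_univ_two,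
        Matrix.SpecialLinearGroup.coe_inv, Matrix.adjugate_fin_two, Matrix.vecMul, dotProduct, hX.1, mul_pow, hX.2]
  have hzn : KleinPSL.pi F (dg ζ) ∈ normalizer ((B.map (KleinPSL.pi F) : Subgroup PG) : Set PG) := by
    rw [mem_normalizer_iff]
    intro y
    constructor
    · rintro ⟨X, hX, rfl⟩
      exact ⟨_, hconj ζ X hX, by rw [map_mul, map_mul, map_inv]⟩
    · rintro ⟨X, hX, hXy⟩
      refine ⟨(dg ζ)⁻¹ * X * dg ζ, ?_, ?_⟩
      · have hinv : (dg ζ)⁻¹ = dg ζ⁻¹ := by
          refine inv_eq_of_mul_eq_one_right (Subtype.ext ?_)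
          ext i j
          fin_cases i <;> fin_cases j <;> simp [hdg, Matrix.SpecialLinearGroup.coe_mul, Matrix.mul_apply, Fin.sum_univ_two]
        have := hconj ζ⁻¹ X hX
        rw [← hinv, inv_inv] at this
        exact this
      · rw [map_mul, map_mul, map_inv, hXy]; group
  obtain ⟨X, hX, hXz⟩ := h _ hnab hzn
  rw [hinj hXz] at hX
  have h7 : ζ ^ s = 1 := by
    have h8 : ((dg ζ : SL(2, F)) : Matrix (Fin 2) (Fin 2) F) 0 0 ^ s = 1 := ((hmemB _).1 hX).2
    exact Units.ext (by simpa [dg] using h8)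
  have := Nat.le_of_dvd hsp.pos (hζo ▸ orderOf_dvd_of_pow_eq_one h7)
  omega

end SelfNorm4073
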